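import Cfsg.Agent.H916.RG.Pair_m3
import Cfsg.Agent.H147.Gen.Outer_m3
import Cfsg.Agent.H257.OZ.SuzFacts
import Cfsg.Agent.H867.Gen.FiTwentyTwo_m3
import Cfsg.Agent.FastGrp
import Cfsg.Agent.Prune
set_option linter.all false
prune_inst 0x7ffffefbbff8fddfffff7e7fffffdfffbdffffffffdffbfbffedffffffff6b6ffbf5fbafffffd8fffff7f2be32f87bdbfbffffffeffbfc7fffff5ffc7fffff9fffffff8d71ffbcbf1ffe7ffff7ffffefff3fffffffffffffffffffffffffffffffffffffffff
open scoped Cfsg.Agent.FastGrp

-- part: H257/RG/Frame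
section
/-!
# Frame for the rows of S3509 with outer automorphisms (helper257)

`Env G Ω N`, `e : N ≃* S`; `inc e : S →* G` the embedding, `act e : G →* MulAut S` the action.

* `fpr_CA` : bound for the fixed point ratio from `CA k (act e x)`, `fpr_CG` from `CG k s`;
* `pair_cov` : `x` with `C_S(x)` a perfect cover of a simple group: rule for a pair `{x, y}`.
-/

set_option autoImplicit false
open Cfsg

namespace Cfsg.Agent.H257.RG

open MulAction Subgroup Cfsg.Agent.H106.RC Cfsg.Agent.H345.RG Cfsg.Agent.H867.RC Cfsg.Agent.H147.Gen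

section frame

variable {G Ω S : Type*} [Group G] [Group S] [MulAction G Ω] {N : Subgroup G}

/-- the embedding -/
def inc (e : N ≃* S) : S →* G := N.subtype.comp e.symm.toMonoidHom

theorem inc_mem (e : N ≃* S) (s : S) : inc e s ∈ N := (e.symm s).2

theorem inc_inj (e : N ≃* S) : Function.Injective (inc e) :=
  N.subtype_injective.comp e.symm.injective

theorem exists_inc (e : N ≃* S) {n : G} (hn : n ∈ N) : ∃ s, inc e s = n :=
  ⟨e ⟨n, hn⟩, by simp only [inc, _root_.MulEquiv.toMonoidHom_eq_coe, _root_.MonoidHom.coe_comp, _root_.Subgroup.coe_subtype, _root_.MonoidHom.coe_coe, _root_.Function.comp_apply, _root_.MulEquiv.symm_apply_apply]⟩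

/-- the action -/
def act [N.Normal] (e : N ≃* S) : G →* MulAut S := (MulAut.congr e).toMonoidHom.comp MulAut.conjNormal

theorem inc_act [N.Normal] (e : N ≃* S) (g : G) (s : S) : inc e (act e g s) = g * inc e s * g⁻¹ := by
  have h1 : act e g s = e (MulAut.conjNormal g (e.symm s)) := rfl
  rw [h1]
  simp only [inc, MulAut.conjNormal_apply, _root_.MulEquiv.toMonoidHom_eq_coe, _root_.MonoidHom.coe_comp, _root_.Subgroup.coe_subtype, _root_.MonoidHom.coe_coe, _root_.Function.comp_apply, _root_.MulEquiv.symm_apply_apply]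

theorem act_inc [N.Normal] (e : N ≃* S) (s : S) : act e (inc e s) = MulAut.conj s := by
  ext t
  apply inc_inj e
  rw [inc_act, MulAut.conj_apply, map_mul, map_mul, map_inv]

theorem act_inj [N.Normal] (e : N ≃* S) (hc : centralizer (N : Set G) = ⊥) : Function.Injective (act e) := by
  rw [injective_iff_map_eq_one]
  intro g hg
  have h1 : g ∈ centralizer (N : Set G) := by
    rw [mem_centralizer_iff]
    intro n hn
    obtain ⟨s, rfl⟩ := exists_inc e hn
    have h2 := inc_act e g s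
    rw [hg, MulAut.one_apply] at h2
    calc inc e s * g = g * inc e s * g⁻¹ * g := by rw [← h2]
      _ = g * inc e s := by group
  rw [hc, mem_bot] at h1
  exact h1

theorem mem_iff [N.Normal] (e : N ≃* S) (hc : centralizer (N : Set G) = ⊥) (g : G) :
    g ∈ N ↔ act e g ∈ (MulAut.conj : S →* MulAut S).range := by
  constructor
  · intro h
    obtain ⟨s, rfl⟩ := exists_inc e h
    exact ⟨s, (act_inc e s).symm⟩
  · rintro ⟨s, hs⟩
    rw [← act_inc e s] at hs
    rw [← act_inj e hc hs]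
    exact inc_mem e s

/-- `k` conjugates generate a group containing `N` -/
theorem exists_Gen [N.Normal] (e : N ≃* S) (hc : centralizer (N : Set G) = ⊥) {x : G} {k : ℕ} (h : CA k (act e x)) :
    ∃ L : List G, L.length = k ∧ N ≤ Gen x L := by
  obtain ⟨f, hf⟩ := h
  refine ⟨List.ofFn fun i => inc e (f i), by simp, ?_⟩
  intro n hn
  have h1 : act e n ∈ _root_.Subgroup.closure (Set.range fun i => MulAut.conj (f i) * act e x * (MulAut.conj (f i))⁻¹) := by
    rw [hf]
    exact mem_sup_right ((mem_iff e hc n).1 hn)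
  have h2 : (Gen x (List.ofFn fun i => inc e (f i))).map (act e) =
      _root_.Subgroup.closure (Set.range fun i => MulAut.conj (f i) * act e x * (MulAut.conj (f i))⁻¹) := by
    rw [Gen, MonoidHom.map_closure]
    congr 1
    ext z
    constructor
    · rintro ⟨_, ⟨c, hc, rfl⟩, rfl⟩
      rw [List.mem_ofFn] at hc
      obtain ⟨i, rfl⟩ := hc
      exact ⟨i, by simp only [map_mul, map_inv, act_inc]⟩
    · rintro ⟨i, rfl⟩
      exact ⟨_, ⟨inc e (f i), by rw [List.mem_ofFn]; exact ⟨i, rfl⟩, rfl⟩, by simp only [map_mul, map_inv, act_inc]⟩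
  rw [← h2] at h1
  obtain ⟨z, hz, hzn⟩ := h1
  rwa [← act_inj e hc hzn]

/-- **fixed point ratio from `CA`** -/
theorem fpr_CA [Finite Ω] [Nonempty Ω] [Finite G] (hE : Env G Ω N) (e : N ≃* S) {m : ℕ} (hm : 0 < m) (hB : Big Ω N m)
    {x : G} {p : ℕ} (hp : p.Prime) (hx : x ^ p = 1) (hx1 : x ≠ 1) {k : ℕ} (hk : 0 < k)
    (h : letI := hE.norm; CA k (act e x)) : fpr Ω x ≤ 1 - p * (1 - 1 / m) / (k * (p - 1)) := by
  have := hE.norm
  obtain ⟨L, hL, hN⟩ := exists_Gen e hE.cent h
  have h1 := Cfsg.Agent.H345.RG.F2 (N := N) hm hB hp hx hx1 L (by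
    rintro rfl
    rw [List.length_nil] at hL
    omega) hN
  rwa [hL] at h1

theorem fpr_CG [Finite Ω] [Nonempty Ω] [Finite G] (hE : Env G Ω N) (e : N ≃* S) {m : ℕ} (hm : 0 < m) (hB : Big Ω N m)
    {s : S} {p : ℕ} (hp : p.Prime) (hs : s ^ p = 1) (hs1 : s ≠ 1) {k : ℕ} (hk : 0 < k)
    (h : CG k s) : fpr Ω (inc e s) ≤ 1 - p * (1 - 1 / m) / (k * (p - 1)) := by
  have := hE.norm
  refine fpr_CA hE e hm hB hp (by rw [← map_pow, hs, map_one]) (fun h1 => hs1 (inc_inj e (by rw [h1, map_one]))) hk ?_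
  rw [act_inc]
  exact h.ca

/-- the centralizer in `N` -/
theorem card_inf_inc (e : N ≃* S) (s : S) :
    Nat.card ↥(N ⊓ centralizer ({inc e s} : Set G)) = Nat.card ↥(centralizer ({s} : Set S)) := by
  refine (Nat.card_congr (Equiv.ofBijective (fun z : centralizer ({s} : Set S) =>
    (⟨inc e z, mem_inf.2 ⟨inc_mem e z, ?_⟩⟩ : ↥(N ⊓ centralizer ({inc e s} : Set G)))) ⟨?_, ?_⟩)).symm
  · rw [mem_centralizer_singleton_iff, ← map_mul, ← map_mul, mem_centralizer_singleton_iff.1 z.2]
  · intro a b hab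
    have h1 : inc e (a : S) = inc e (b : S) :=
      congrArg (fun z : ↥(N ⊓ centralizer ({inc e s} : Set G)) => (z : G)) hab
    exact Subtype.ext (inc_inj e h1)
  · rintro ⟨z, hz⟩
    obtain ⟨h1, h2⟩ := mem_inf.1 hz
    obtain ⟨y, rfl⟩ := exists_inc e h1
    refine ⟨⟨y, ?_⟩, rfl⟩
    rw [mem_centralizer_singleton_iff] at h2 ⊢
    exact inc_inj e (by rw [map_mul, map_mul]; exact h2)

/-- **fixed point ratio from the centralizer** -/
theorem fpr_cent [Finite Ω] [Finite G] (hE : Env G Ω N) (e : N ≃* S) {m : ℕ} (hm : 0 < m) (hB : Big Ω N m) {s : S} {c : ℕ}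
    (hc : Nat.card ↥(centralizer ({s} : Set S)) ≤ c) : fpr Ω (inc e s) ≤ c / m := by
  refine (Cfsg.Agent.H345.RG.F1 hm hB hE.norm _).trans ?_
  rw [card_inf_inc]
  have hm' : (0 : ℚ) < m := by exact_mod_cast hm
  exact div_le_div_of_nonneg_right (by exact_mod_cast hc) hm'.le

/-- orbits are big if the proper subgroups have big index -/
theorem big_of_min [Finite G] (hE : Env G Ω N) (e : N ≃* S) {m : ℕ} (hm : ∀ H : Subgroup S, H ≠ ⊤ → m ≤ H.index) :
    Big Ω N m := by
  intro ω
  refine le_orbit hE (fun H hH => ?_) ω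
  have h1 : (H.map e.toMonoidHom).index = H.index := index_map_of_bijective e.bijective H
  rw [← h1]
  refine hm _ fun h => hH ?_
  rw [eq_top_iff]
  intro n _
  have h2 : e n ∈ H.map e.toMonoidHom := by rw [h]; exact mem_top _
  obtain ⟨n', hn', h3⟩ := h2
  rwa [← e.injective h3]

end frame

section pair

variable {G Ω S : Type*} [Group G] [Group S] [MulAction G Ω] {N : Subgroup G}

open scoped commutatorElement

/-- **the pair rule**: `C_S(s)` is perfect, its proper normal subgroups are in `⟨s⟩`; `y` commutes with `s`: then `s` is in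
the normal closure of `y` under `C(s)`, or `y` centralizes `C_S(s)` -/
theorem mem_or_cent [N.Normal] (e : N ≃* S) {s : S} (hperf : _root_.commutator ↥(centralizer ({s} : Set S)) = ⊤)
    (hn : ∀ K : Subgroup ↥(centralizer ({s} : Set S)), K.Normal → (∀ k ∈ K, (k : S) ∈ zpowers s) ∨
      ∀ c : ↥(centralizer ({s} : Set S)), ∃ k ∈ K, (c * k : S) ∈ zpowers s)
    {y : G} (hy : y * inc e s = inc e s * y) :
    inc e s ∈ _root_.Subgroup.closure {z | ∃ c : G, c * inc e s = inc e s * c ∧ z = c * y * c⁻¹} ∨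
      ∀ c : S, c * s = s * c → inc e c * y = y * inc e c := by
  set x : G := inc e s with hx
  set K : Subgroup G := _root_.Subgroup.closure {z | ∃ c : G, c * x = x * c ∧ z = c * y * c⁻¹} with hK
  set C : Subgroup S := centralizer ({s} : Set S) with hC
  have hCm : ∀ c : S, c ∈ C ↔ c * s = s * c := fun c => mem_centralizer_singleton_iff
  have hinc : ∀ c ∈ C, inc e c * x = x * inc e c := by
    intro c hc
    rw [hx, ← map_mul, (hCm c).1 hc, map_mul]
  -- `K` is normalised by `C_G(x)`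
  have hKc : ∀ c : G, c * x = x * c → ∀ k ∈ K, c * k * c⁻¹ ∈ K := by
    intro c hc k hk
    have h1 : K.map (MulAut.conj c).toMonoidHom ≤ K := by
      rw [hK, MonoidHom.map_closure, closure_le]
      rintro _ ⟨_, ⟨d, hd, rfl⟩, rfl⟩
      refine subset_closure ⟨c * d, ?_, ?_⟩
      · rw [mul_assoc, hd, ← mul_assoc, hc, mul_assoc]
      · show c * (d * y * d⁻¹) * c⁻¹ = _
        group
    exact h1 (mem_map_of_mem _ hk)
  have hyK : y ∈ K := subset_closure ⟨1, by simp, by simp⟩
  -- commutators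
  have hcom : ∀ c ∈ C, inc e c * y * (inc e c)⁻¹ * y⁻¹ ∈ K := fun c hc =>
    mul_mem (subset_closure ⟨inc e c, hinc c hc, rfl⟩) (inv_mem hyK)
  -- `D = K ∩ C`
  let D : Subgroup C := (K.comap (inc e)).subgroupOf C
  have hD : ∀ c : C, c ∈ D ↔ inc e (c : S) ∈ K := fun c => Iff.rfl
  have hDn : D.Normal := by
    constructor
    intro d hd c
    rw [hD] at hd ⊢
    rw [Subgroup.coe_mul, Subgroup.coe_mul, Subgroup.coe_inv, map_mul, map_mul, map_inv]
    exact hKc _ (hinc _ c.2) _ hd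
  -- `c y c⁻¹ y⁻¹` as an element of `S`
  have hyinv : y⁻¹ * x = x * y⁻¹ := by
    rw [inv_mul_eq_iff_eq_mul, ← mul_assoc, hy, mul_inv_cancel_right]
  have hθ : ∀ c ∈ C, (act e y c) ∈ C := by
    intro c hc
    rw [hCm]
    apply inc_inj e
    rw [map_mul, map_mul, inc_act, ← hx]
    calc y * inc e c * y⁻¹ * x = y * inc e c * (y⁻¹ * x) := by group
      _ = y * (inc e c * x) * y⁻¹ := by rw [hyinv]; group
      _ = (y * x) * inc e c * y⁻¹ := by rw [hinc c hc]; group
      _ = x * (y * inc e c * y⁻¹) := by rw [hy]; group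
  have hcomD : ∀ c : C, c * (⟨act e y c, hθ c c.2⟩ : C)⁻¹ ∈ D := by
    intro c
    rw [hD, Subgroup.coe_mul, Subgroup.coe_inv, map_mul, map_inv, inc_act]
    have h1 := hcom c c.2
    have h2 : inc e (c : S) * (y * inc e c * y⁻¹)⁻¹ = inc e c * y * (inc e c)⁻¹ * y⁻¹ := by group
    rwa [h2]
  rcases hn D hDn with h | h
  · -- all commutators are in `⟨s⟩`
    right
    have hcen : ∀ z ∈ zpowers s, ∀ c ∈ C, z * c = c * z := by
      intro z hz c hc
      obtain ⟨i, rfl⟩ := mem_zpowers_iff.1 hz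
      exact ((show Commute c s from (hCm c).1 hc).zpow_right i).eq.symm
    -- the homomorphism `c ↦ c (y c y⁻¹)⁻¹`
    let φ : C →* S :=
      { toFun := fun c => (c : S) * (act e y c)⁻¹
        map_one' := by simp only [_root_.OneMemClass.coe_one, _root_.map_one, _root_.inv_one, _root_.mul_one]
        map_mul' := by
          intro a b
          have h1 : (a : S) * (act e y a)⁻¹ ∈ zpowers s := h _ (hcomD a)
          have h2 : (b : S) * (act e y b)⁻¹ ∈ zpowers s := h _ (hcomD b)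
          rw [Subgroup.coe_mul, map_mul, mul_inv_rev]
          have h3 := hcen _ h2 _ (inv_mem (hθ a a.2))
          calc (a : S) * b * ((act e y b)⁻¹ * (act e y a)⁻¹) = a * ((b * (act e y b)⁻¹) * (act e y a)⁻¹) := by group
            _ = a * ((act e y a)⁻¹ * (b * (act e y b)⁻¹)) := by rw [h3]
            _ = _ := by group }
    have hφ : ∀ c : C, φ c = 1 := by
      intro c
      have h1 : commutator C ≤ φ.ker := by
        rw [commutator_def, commutator_le]
        intro a _ b _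
        rw [MonoidHom.mem_ker, map_commutatorElement, commutatorElement_eq_one_iff_mul_comm]
        have h2 : φ a ∈ zpowers s := h _ (hcomD a)
        have h3 : φ b ∈ zpowers s := h _ (hcomD b)
        obtain ⟨i, hi⟩ := mem_zpowers_iff.1 h2
        obtain ⟨j, hj⟩ := mem_zpowers_iff.1 h3
        rw [← hi, ← hj, ← zpow_add, ← zpow_add, add_comm]
      rw [hperf] at h1
      exact h1 (mem_top c)
    intro c hc
    have h1 := hφ ⟨c, (hCm c).2 hc⟩
    have h2 : c * (act e y c)⁻¹ = 1 := h1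
    rw [mul_inv_eq_one] at h2
    have h3 := inc_act e y c
    rw [← h2] at h3
    calc inc e c * y = y * inc e c * y⁻¹ * y := by rw [← h3]
      _ = y * inc e c := by group
  · -- `D ⟨s⟩ = C`
    left
    have hle : _root_.commutator C ≤ D := by
      rw [commutator_def, commutator_le]
      intro a _ b _
      obtain ⟨k, hk, hak⟩ := h a
      obtain ⟨l, hl, hbl⟩ := h b
      -- `a = z k⁻¹` with `z` central
      have hcen : ∀ z : C, (z : S) ∈ zpowers s → ∀ c : C, z * c = c * z := by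
        intro z hz c
        obtain ⟨i, hi⟩ := mem_zpowers_iff.1 hz
        apply Subtype.ext
        rw [Subgroup.coe_mul, Subgroup.coe_mul, ← hi]
        exact ((show Commute (c : S) s from (hCm c).1 c.2).zpow_right i).eq.symm
      have ha := hcen (a * k) hak
      have hb := hcen (b * l) hbl
      have h1 : ⁅a, b⁆ = ⁅k⁻¹, l⁻¹⁆ := by
        have e1 : a = (a * k) * k⁻¹ := by group
        have e2 : b = (b * l) * l⁻¹ := by group
        set z := a * k
        set w := b * l
        rw [e1, e2, commutatorElement_def, commutatorElement_def]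
        calc z * k⁻¹ * (w * l⁻¹) * (z * k⁻¹)⁻¹ * (w * l⁻¹)⁻¹
            = z * (k⁻¹ * w * l⁻¹ * k) * z⁻¹ * l * w⁻¹ := by group
          _ = (k⁻¹ * w * l⁻¹ * k) * z * z⁻¹ * l * w⁻¹ := by rw [ha]
          _ = k⁻¹ * (w * (l⁻¹ * k * l)) * w⁻¹ := by group
          _ = k⁻¹ * ((l⁻¹ * k * l) * w) * w⁻¹ := by rw [hb]
          _ = _ := by group
      rw [h1, commutatorElement_def]
      exact mul_mem (mul_mem (mul_mem (inv_mem hk) (inv_mem hl)) (inv_mem (inv_mem hk))) (inv_mem (inv_mem hl))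
    rw [hperf] at hle
    exact (hD ⟨s, (hCm s).2 rfl⟩).1 (hle (mem_top _))

end pair

section cover

variable {S H : Type*} [Group S] [Group H]

/-- the conditions of `mem_or_cent` for a centralizer which covers a simple group -/
theorem normal_or [IsSimpleGroup H] {s : S} (f : ↥(centralizer ({s} : Set S)) →* H) (hs : Function.Surjective f)
    (hk : ∀ c, f c = 1 ↔ (c : S) ∈ zpowers s) (K : Subgroup ↥(centralizer ({s} : Set S))) (hK : K.Normal) :
    (∀ k ∈ K, (k : S) ∈ zpowers s) ∨ ∀ c : ↥(centralizer ({s} : Set S)), ∃ k ∈ K, (c * k : S) ∈ zpowers s := by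
  have hn : (K.map f).Normal := hK.map f hs
  rcases hn.eq_bot_or_eq_top with h | h
  · left
    intro k hk'
    have h1 : f k ∈ K.map f := mem_map_of_mem f hk'
    rw [h, mem_bot] at h1
    exact (hk k).1 h1
  · right
    intro c
    have h1 : (f c)⁻¹ ∈ K.map f := by rw [h]; exact mem_top _
    obtain ⟨k, hk1, hk2⟩ := h1
    refine ⟨k, hk1, ?_⟩
    have h2 := (hk (c * k)).1 (by rw [map_mul, hk2, mul_inv_cancel])
    exact h2

/-- **all proper subgroups have index at least `p d`** -/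
theorem index_ge_of_cov [Finite S] [IsSimpleGroup S] {y : S} {p : ℕ} (hp : p.Prime) (ho : orderOf y = p)
    (f : ↥(centralizer ({y} : Set S)) →* H) (hk : ∀ c, f c = 1 ↔ (c : S) ∈ zpowers y) {d : ℕ}
    (hmem : ∀ K : Subgroup ↥(centralizer ({y} : Set S)), K.index < p * d → f.ker ≤ K)
    {K : Subgroup S} (hK : K ≠ ⊤) : p * d ≤ K.index := by
  have hy1 : y ≠ 1 := by
    rintro rfl
    rw [orderOf_one] at ho
    exact hp.one_lt.ne ho
  by_contra hlt
  push Not at hlt
  apply hK
  have hyC : y ∈ centralizer ({y} : Set S) := mem_centralizer_singleton_iff.2 rfl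
  have hall : ∀ g : S, g⁻¹ * y * g ∈ K := by
    intro g
    let Kg : Subgroup S := K.map (MulAut.conj g).toMonoidHom
    have h1 : Kg.index = K.index := index_map_of_bijective (MulAut.conj g).bijective K
    have h2 : (Kg.subgroupOf (centralizer ({y} : Set S))).index ≤ Kg.index := by
      have : Kg.relIndex (centralizer ({y} : Set S)) ≤ Kg.relIndex ⊤ := relIndex_le_of_le_right le_top (by
        rw [relIndex_top_right]; exact index_ne_zero_of_finite)
      rwa [relIndex_top_right] at this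
    have h3 := hmem (Kg.subgroupOf (centralizer ({y} : Set S))) (by omega)
    have h4 : (⟨y, hyC⟩ : centralizer ({y} : Set S)) ∈ Kg.subgroupOf (centralizer ({y} : Set S)) :=
      h3 (by rw [MonoidHom.mem_ker, hk]; exact mem_zpowers y)
    obtain ⟨k, hk, hky⟩ := mem_subgroupOf.1 h4
    have h5 : g * k * g⁻¹ = y := hky
    have h6 : g⁻¹ * y * g = k := by rw [← h5]; group
    rw [h6]
    exact hk
  have h1 : normalClosure ({y} : Set S) ≤ K := by
    rw [normalClosure, closure_le]
    intro x hx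
    obtain ⟨a, ha, hax⟩ := Group.mem_conjugatesOfSet_iff.1 hx
    rw [Set.mem_singleton_iff] at ha
    subst ha
    obtain ⟨c, hc⟩ := isConj_iff.1 hax
    have h2 := hall c⁻¹
    rw [inv_inv, hc] at h2
    exact h2
  rcases (inferInstance : (normalClosure ({y} : Set S)).Normal).eq_bot_or_eq_top with h | h
  · exfalso
    have h2 : y ∈ normalClosure ({y} : Set S) := subset_normalClosure (Set.mem_singleton y)
    rw [h, mem_bot] at h2
    exact hy1 h2
  · rw [h] at h1
    exact top_le_iff.1 h1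

end cover

end Cfsg.Agent.H257.RG
end

-- part: H257/RG/SuzAut
section
/-!
# S3509, row `Suz`: `Suz : 2 ≤ Sym(1782)` is the automorphism group (helper257)

* `kap : A ≃* MulAut Suz`, `ψ (kap a z) = a ψ(z) a⁻¹`;
* `card_cent` : `|C_{Aut(Suz)}(conj g)| = |C_A(ψ g)|`;
* `card_mul` : exact values.
-/

set_option autoImplicit false
set_option maxRecDepth 1000000
set_option exponentiation.threshold 5000

namespace Cfsg.Agent.H257.RG.SuzF

open Subgroup MulAction Cfsg.Agent.H257.RG Cfsg.Agent.H257.OZ Cfsg.Agent.H257.OZ.SuzF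
open Cfsg Cfsg.Spor Cfsg.Agent.H123.Cls Cfsg.Agent.H123.Cls.SuzDat Cfsg.Agent.Lib.BitNet
open Cfsg.Agent.H763.Ore.SuzModel (A N A_conj card_A card_N N_le_A T_mem_A T_notMem)
open Cfsg.Agent.H763.Ore.SuzTab (A_le_Aut)
open Cfsg.Agent.OddHalf.Table.SuzRep (ψ ψ_val ψ_injective)
open Cfsg.Agent.SporadicRecognition.SuzOrder (el card_Suz)
open Equiv (Perm)

/-- the normal subgroup -/
noncomputable def NN : Subgroup A := N.subgroupOf A

instance nn_normal : (NN).Normal := by
  constructor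
  intro n hn a
  exact A_conj a.2 hn

/-- the isomorphism -/
noncomputable def eN : NN ≃* Suz :=
  (subgroupOfEquivOfLe N_le_A).trans (MonoidHom.ofInjective ψ_injective).symm

theorem inc_val (z : Suz) : ((inc eN z : A) : Perm (Fin 1782)) = ψ z := by
  have h : eN.symm z = (subgroupOfEquivOfLe N_le_A).symm ((MonoidHom.ofInjective ψ_injective) z) := rfl
  show ((eN.symm z : NN) : A).1 = ψ z
  rw [h]
  rfl

theorem cent_bot : centralizer (NN : Set A) = ⊥ := by
  have := fin
  rw [eq_bot_iff]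
  intro a ha
  rw [mem_centralizer_iff] at ha
  rw [mem_bot]
  obtain ⟨g, hg⟩ := exists_tab m16
  -- `|C_A(ψ g)| = 13`
  have h1 : 12 < orderOf (ψ g) := lt_orderOf hg 1 chk16
  have h2 := cent_A_le m16 hg
  have h3 : ∀ z : Suz, ψ z * (a : Perm (Fin 1782)) = a * ψ z := by
    intro z
    have h4 := ha (inc eN z) (inc_mem eN z)
    have h5 := congrArg (fun b : A => (b : Perm (Fin 1782))) h4
    simp only [Subgroup.coe_mul, inc_val] at h5
    exact h5
  have h4 : zpowers (ψ g) ≤ A ⊓ centralizer {ψ g} := by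
    rw [zpowers_le]
    exact mem_inf.2 ⟨N_le_A ⟨g, rfl⟩, mem_centralizer_singleton_iff.2 rfl⟩
  have h5 : zpowers (ψ g) = A ⊓ centralizer {ψ g} := by
    refine eq_of_le_of_card_ge h4 (h2.trans ?_)
    rw [Nat.card_zpowers]
    exact h1
  have h6 : (a : Perm (Fin 1782)) ∈ zpowers (ψ g) := by
    rw [h5]
    exact mem_inf.2 ⟨a.2, mem_centralizer_singleton_iff.2 (h3 g).symm⟩
  obtain ⟨k, hk⟩ := mem_zpowers_iff.1 h6
  have h7 : g ^ k ∈ center Suz := by
    rw [mem_center_iff]
    intro z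
    apply ψ_injective
    rw [map_mul, map_mul, map_zpow, hk]
    exact h3 z
  rw [Cfsg.Agent.H867.Gen.Suz.center_suz, mem_bot] at h7
  apply Subtype.ext
  rw [← hk, ← map_zpow, h7, map_one]
  rfl

theorem finAut : Finite (MulAut Suz) := by
  have := fin
  exact Finite.of_injective (fun α : MulAut Suz => (α : Suz → Suz)) fun α β h => MulEquiv.ext (congrFun h)

theorem card_aut : Nat.card (MulAut Suz) ≤ 2 * 448345497600 := by
  have := fin
  have := finAut
  rw [← card_mul_index (MulAut.conj : Suz →* MulAut Suz).range]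
  have h1 : Nat.card (MulAut.conj : Suz →* MulAut Suz).range ≤ Nat.card Suz :=
    Nat.card_le_card_of_surjective _ (MulAut.conj : Suz →* MulAut Suz).rangeRestrict_surjective
  rw [card_Suz] at h1
  rcases Cfsg.Agent.KFacts.SuzOut.index_eq with h | h
  · rw [h]; omega
  · rw [h]; omega

theorem bij : Function.Bijective (act eN) := by
  have := finAut
  have hi := act_inj eN cent_bot
  refine (Nat.bijective_iff_injective_and_card _).2 ⟨hi, ?_⟩
  have h1 := Nat.card_le_card_of_injective _ hi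
  have h2 := card_A
  have h3 := card_aut
  omega

/-- **the automorphism group** -/
noncomputable def kap : A ≃* MulAut Suz := MulEquiv.ofBijective (act eN) bij

theorem kap_spec (a : A) (z : Suz) : ψ (kap a z) = a * ψ z * (a : Perm (Fin 1782))⁻¹ := by
  have h := inc_act eN a z
  have h1 := congrArg (fun b : A => (b : Perm (Fin 1782))) h
  simp only [Subgroup.coe_mul, Subgroup.coe_inv, inc_val] at h1
  exact h1

theorem kap_inc (z : Suz) : kap (inc eN z) = MulAut.conj z := act_inc eN z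

theorem card_A_eq : Nat.card A = 2 * 448345497600 := by
  have := finAut
  have h1 : Nat.card A = Nat.card (MulAut Suz) := Nat.card_congr kap.toEquiv
  have h2 := card_A
  have h3 := card_aut
  omega

/-- centralizers -/
theorem card_cent (g : Suz) : Nat.card ↥(centralizer ({MulAut.conj g} : Set (MulAut Suz))) =
    Nat.card ↥(A ⊓ centralizer {ψ g}) := by
  refine (Nat.card_congr (Equiv.ofBijective (fun z : ↥(A ⊓ centralizer {ψ g}) =>
    (⟨kap ⟨z, (mem_inf.1 z.2).1⟩, ?_⟩ : ↥(centralizer ({MulAut.conj g} : Set (MulAut Suz))))) ⟨?_, ?_⟩)).symm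
  · rw [mem_centralizer_singleton_iff, ← kap_inc, ← map_mul, ← map_mul]
    congr 1
    apply Subtype.ext
    rw [Subgroup.coe_mul, Subgroup.coe_mul, inc_val]
    exact mem_centralizer_singleton_iff.1 (mem_inf.1 z.2).2
  · intro a b hab
    have h1 : kap ⟨(a : Perm (Fin 1782)), (mem_inf.1 a.2).1⟩ = kap ⟨(b : Perm (Fin 1782)), (mem_inf.1 b.2).1⟩ :=
      congrArg (fun z : ↥(centralizer ({MulAut.conj g} : Set (MulAut Suz))) => (z : MulAut Suz)) hab
    have h2 := congrArg (fun z : A => (z : Perm (Fin 1782))) (kap.injective h1)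
    exact Subtype.ext h2
  · rintro ⟨α, hα⟩
    obtain ⟨a, rfl⟩ := kap.surjective α
    rw [mem_centralizer_singleton_iff, ← kap_inc, ← map_mul, ← map_mul] at hα
    have h1 := congrArg (fun z : A => (z : Perm (Fin 1782))) (kap.injective hα)
    simp only [Subgroup.coe_mul, inc_val] at h1
    exact ⟨⟨a, mem_inf.2 ⟨a.2, mem_centralizer_singleton_iff.2 h1⟩⟩, rfl⟩

/-- the class sizes -/
theorem sizes : ∀ i : Fin D.length, ∀ r : Perm (Fin 1782), r ∈ N → (∀ p : Fin 1782, (r p : ℕ) = lk 11 (D[i.1]).1 p) →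
    (cls A r).ncard = 2 * 448345497600 / ((D[i.1]).2.1 + 1) := by
  have hmem : ∀ i : Fin D.length, D[i.1] ∈ D := fun i => List.getElem_mem i.2
  have hinj : Function.Injective (fun i : Fin D.length => (D[i.1]).2.2) := by
    intro i j hij
    have h1 := (List.nodup_iff_injective_get.1 D_nodup)
    have h2 : (⟨i.1, by rw [List.length_map]; exact i.2⟩ : Fin (D.map fun x => x.2.2).length) =
        ⟨j.1, by rw [List.length_map]; exact j.2⟩ := by
      apply h1
      simpa using hij
    have h3 := congrArg Fin.val h2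
    exact Fin.ext h3
  have hsum' : Nat.card N ≤ ∑ i : Fin D.length, 2 * 448345497600 / ((D[i.1]).2.1 + 1) := by
    rw [Fin.sum_univ_fun_getElem D (fun x => 2 * 448345497600 / (x.2.1 + 1)), card_N]
    exact Nat.le_of_ble_eq_true D_sum
  choose r hrN hrp using fun i : Fin D.length => D_mem _ (hmem i)
  have h12 := exact_sizes (A := A) (N := N) (fun _ ha _ hx => A_conj ha hx) r hrN
    (fun i : Fin D.length => (D[i.1]).2.1 + 1)
    (fun i : Fin D.length => 2 * 448345497600 / ((D[i.1]).2.1 + 1)) ?_ ?_ ?_ hsum'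
  · intro i r' hr' hrp'
    have e : r' = r i := perm_eq_of_tab hrp' (hrp i)
    rw [e]
    exact h12.2 i
  · intro i
    exact cent_A_le (hmem i) (hrp i)
  · intro i j hij b hb h1
    apply hij
    apply hinj
    show (D[i.1]).2.2 = (D[j.1]).2.2
    rw [← sig_of_chk (by norm_num) (hrp i) (D_sg _ (hmem i)) (D_len _ (hmem i)),
      ← sig_of_chk (by norm_num) (hrp j) (D_sg _ (hmem j)) (D_len _ (hmem j))]
    refine List.map_congr_left fun k _ => ?_
    rw [← h1, pwc_conj (A_le_Aut hb)]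
  · exact fun i => Nat.div_le_div_right card_A

/-- exact order of the centralizer -/
theorem card_mul {i : ℕ} (hi : i < D.length) {r : Perm (Fin 1782)} (hr : r ∈ N)
    (h : ∀ p : Fin 1782, (r p : ℕ) = lk 11 (D[i]).1 p) :
    Nat.card ↥(A ⊓ centralizer {r}) * (2 * 448345497600 / ((D[i]).2.1 + 1)) = 2 * 448345497600 := by
  rw [← sizes ⟨i, hi⟩ r hr h, ← card_eq_mul, card_A_eq]

end Cfsg.Agent.H257.RG.SuzF
end

-- part: H257/RG/SuzCls
section
/-!
# S3509, row `Suz`: orders of the elements of the 37 classes (helper257)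

* `idx_of` : the classes of the elements of a given order;
* `coprime_case` : commuting elements of different odd prime orders: `{3, 5}` or `{3, 7}`.
-/

set_option autoImplicit false
set_option maxRecDepth 1000000
set_option exponentiation.threshold 5000

namespace Cfsg.Agent.H257.RG.SuzF

open Subgroup MulAction Cfsg.Agent.H257.RG Cfsg.Agent.H257.OZ Cfsg.Agent.H257.OZ.SuzF
open Cfsg Cfsg.Spor Cfsg.Agent.H123.Cls Cfsg.Agent.H123.Cls.SuzDat Cfsg.Agent.Lib.BitNet
open Cfsg.Agent.H763.Ore.SuzModel (A N A_conj card_A card_N N_le_A T_mem_A T_notMem)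
open Cfsg.Agent.OddHalf.Table.SuzRep (ψ ψ_val ψ_injective)
open Cfsg.Agent.SporadicRecognition.SuzOrder (el card_Suz)
open Equiv (Perm)

/-- a point on a cycle of length the order; the order; a bound -/
def Y : List (ℕ × ℕ × ℕ) := [(2, 2, 0), (0, 1, 1), (0, 4, 0), (0, 6, 0), (0, 3, 3), (0, 20, 0), (1, 3, 3), (0, 12, 0), (0, 12, 0), (0, 11, 11), (0, 14, 0), (0, 8, 0), (1, 10, 0), (4, 15, 15), (1, 5, 5), (0, 6, 0), (1, 13, 13), (14, 21, 21), (0, 15, 15), (0, 12, 0), (0, 9, 0), (0, 18, 0), (0, 4, 0), (0, 8, 0), (14, 12, 0), (1, 10, 0), (0, 12, 0), (1, 24, 0), (2, 6, 0), (0, 7, 7), (1, 8, 0), (0, 2, 0), (0, 6, 0), (1, 4, 0), (1, 5, 5), (2, 4, 0), (4, 3, 3)]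

noncomputable def chkY (x : ℕ × ℕ × List ℕ) (y : ℕ × ℕ × ℕ) : Bool :=
  Nat.blt y.1 1782 && (Nat.blt 0 y.2.1 && (Nat.beq (it 11 x.1 y.2.1 y.1) y.1 && (chkO x.1 y.1 (y.2.1 - 1) &&
    (Nat.beq y.2.2 0 || allN (fun p => Nat.beq (it 11 x.1 y.2.2 p) p) 1782))))

theorem chkA : ((D.zip Y).all fun z => chkY z.1 z.2) = true := by
  have h : ((D.zip Y).all fun z => Nat.blt z.2.1 1782 && (Nat.blt 0 z.2.2.1 && (Nat.beq (it 11 z.1.1 z.2.2.1 z.2.1) z.2.1 &&
      (chkO z.1.1 z.2.1 (z.2.2.1 - 1) && (Nat.beq z.2.2.2 0 ||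
        [14, 98, 1, 1575, 0].all fun p => Nat.beq (it 11 z.1.1 z.2.2.2 p) p))))) = true := by
    unfold D Y
    decide +kernel
  refine List.all_eq_true.2 fun z hz => ?_
  have h1 := List.all_eq_true.1 h z hz
  unfold chkY
  simp only [Bool.and_eq_true, Bool.or_eq_true] at h1 ⊢
  exact ⟨h1.1, h1.2.1, h1.2.2.1, h1.2.2.2.1, h1.2.2.2.2.imp id (pow_sb5 (exists_tab (List.of_mem_zip hz).1))⟩

theorem dvd_order {P : ℕ} {r : Perm (Fin 1782)} (h : ∀ p : Fin 1782, (r p : ℕ) = lk 11 P p) (q : Fin 1782) {o : ℕ}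
    (ho : 0 < o) (h1 : it 11 P o q = q) (hc : chkO P q (o - 1) = true) : o ∣ orderOf r := by
  have h2 : (r ^ o) q = q := Fin.ext (by rw [pow_tab h, h1])
  have h3 : ∀ k : ℕ, (r ^ (o * k)) q = q := by
    intro k
    rw [pow_mul]
    exact Equiv.Perm.pow_apply_eq_self_of_apply_eq_self h2 k
  have h4 : (r ^ (orderOf r % o)) q = q := by
    have h5 : (r ^ (orderOf r % o)) ((r ^ (o * (orderOf r / o))) q) = q := by
      rw [← Equiv.Perm.mul_apply, ← pow_add, Nat.mod_add_div, pow_orderOf_eq_one, Equiv.Perm.one_apply]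
    rwa [h3] at h5
  by_contra hd
  have h6 : orderOf r % o ≠ 0 := fun h => hd (Nat.dvd_of_mod_eq_zero h)
  have h7 : orderOf r % o < o := Nat.mod_lt _ ho
  have h8 := (allN_iff _ _).1 hc (orderOf r % o - 1) (by omega)
  have h9 : orderOf r % o - 1 + 1 = orderOf r % o := by omega
  rw [h9, ← pow_tab h, h4] at h8
  simp at h8

/-- **class and order** -/
theorem cls_of (g : Suz) : ∃ (i : ℕ) (x : ℕ × ℕ × List ℕ) (y : ℕ × ℕ × ℕ), i < 37 ∧ D[i]? = some x ∧ Y[i]? = some y ∧
    (∃ (r : Suz) (α : MulAut Suz), (∀ p : Fin 1782, (ψ r p : ℕ) = lk 11 x.1 p) ∧ g = α r) ∧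
    y.2.1 ∣ orderOf g ∧ orderOf g ∣ y.2.2 := by
  obtain ⟨x, hx, r, ⟨r0, rfl⟩, hr, b, hb, hg⟩ := suz_cover (ψ g) ⟨g, rfl⟩
  obtain ⟨i, hi⟩ := List.mem_iff_getElem?.1 hx
  have hi37 : i < 37 := by
    have := (List.getElem?_eq_some_iff.1 hi).1
    exact this
  have hY : ∃ y, Y[i]? = some y := ⟨Y[i]'hi37, List.getElem?_eq_getElem _⟩
  obtain ⟨y, hy⟩ := hY
  have hz : (x, y) ∈ D.zip Y := List.mem_iff_getElem?.2 ⟨i, List.getElem?_zip_eq_some.2 ⟨hi, hy⟩⟩
  have hc := List.all_eq_true.1 chkA _ hz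
  unfold chkY at hc
  simp only [Bool.and_eq_true, Bool.or_eq_true] at hc
  obtain ⟨c1, c2, c3, c4, c5⟩ := hc
  have d1 : y.1 < 1782 := by simpa [Nat.blt_eq] using c1
  have d2 : 0 < y.2.1 := by simpa [Nat.blt_eq] using c2
  have hα : g = kap ⟨b, hb⟩ r0 := by
    apply ψ_injective
    rw [kap_spec]
    exact hg
  have ho : orderOf g = orderOf r0 := by rw [hα, MulEquiv.orderOf_eq]
  have ho2 : orderOf (ψ r0) = orderOf r0 := orderOf_injective ψ ψ_injective r0
  refine ⟨i, x, y, hi37, hi, hy, ⟨r0, kap ⟨b, hb⟩, hr, hα⟩, ?_, ?_⟩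
  · rw [ho, ← ho2]
    exact dvd_order hr ⟨y.1, d1⟩ d2 (Nat.eq_of_beq_eq_true c3) c4
  · rcases c5 with c5 | c5
    · rw [Nat.eq_of_beq_eq_true c5]
      exact dvd_zero _
    · rw [ho, ← ho2]
      refine orderOf_dvd_of_pow_eq_one ?_
      ext p
      rw [pow_tab hr, Equiv.Perm.one_apply]
      exact Nat.eq_of_beq_eq_true ((allN_iff _ _).1 c5 p p.2)

/-- the test for the classes of elements of order `n` -/
def tst (n : ℕ) (L : List ℕ) : Bool :=
  (List.range 37).all fun i => !(n % (Y.getD i (0, 0, 0)).2.1 == 0 && (Y.getD i (0, 0, 0)).2.2 % n == 0) || L.contains i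

theorem idx_of {g : Suz} {n : ℕ} (hn : orderOf g = n) (L : List ℕ) (hL : tst n L = true) :
    ∃ (i : ℕ) (x : ℕ × ℕ × List ℕ), i ∈ L ∧ D[i]? = some x ∧
    ∃ (r : Suz) (α : MulAut Suz), (∀ p : Fin 1782, (ψ r p : ℕ) = lk 11 x.1 p) ∧ g = α r := by
  obtain ⟨i, x, y, hi, hx, hy, hr, h1, h2⟩ := cls_of g
  have h3 := List.all_eq_true.1 hL i (List.mem_range.2 hi)
  rw [List.getD_eq_getElem?_getD, hy, Option.getD_some, ← hn, Nat.mod_eq_zero_of_dvd h1, Nat.mod_eq_zero_of_dvd h2] at h3
  simp only [beq_self_eq_true, Bool.and_self, Bool.not_true, Bool.false_or, List.contains_iff_mem] at h3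
  exact ⟨i, x, h3, hx, hr⟩

theorem no_order {n : ℕ} (hL : tst n [] = true) (g : Suz) : orderOf g ≠ n := by
  intro h
  obtain ⟨i, x, hi, -⟩ := idx_of h [] hL
  exact absurd hi (List.not_mem_nil)

/-- orders of products of commuting elements -/
theorem order_prod {G : Type*} [Group G] {x y : G} {p q : ℕ} (hp : p.Prime) (hq : q.Prime) (hpq : p ≠ q) (hx : x ^ p = 1) (hx1 : x ≠ 1)
    (hy : y ^ q = 1) (hy1 : y ≠ 1) (h : x * y = y * x) : orderOf (x * y) = p * q := by
  have := Fact.mk hp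
  have := Fact.mk hq
  have h1 : orderOf x = p := orderOf_eq_prime hx hx1
  have h2 : orderOf y = q := orderOf_eq_prime hy hy1
  rw [(show Commute x y from h).orderOf_mul_eq_mul_orderOf_of_coprime (by rw [h1, h2]; exact (Nat.coprime_primes hp hq).2 hpq),
    h1, h2]

theorem primes {g : Suz} {p : ℕ} (hp : p.Prime) (hg : g ^ p = 1) (hg1 : g ≠ 1) :
    p = 2 ∨ p = 3 ∨ p = 5 ∨ p = 7 ∨ p = 11 ∨ p = 13 := by
  have := Fact.mk hp
  have h : orderOf g = p := orderOf_eq_prime hg hg1
  exact Cfsg.Agent.H867.Gen.Suz.primes hp (h ▸ _root_.orderOf_dvd_natCard g)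

/-- **two different odd primes** -/
theorem pairs {g h : Suz} {p q : ℕ} (hp : p.Prime) (hq : q.Prime) (hpq : p < q) (hp2 : p ≠ 2) (hg : g ^ p = 1)
    (hg1 : g ≠ 1) (hh : h ^ q = 1) (hh1 : h ≠ 1) (hgh : g * h = h * g) : p = 3 ∧ (q = 5 ∨ q = 7) := by
  have ho := order_prod hp hq hpq.ne hg hg1 hh hh1 hgh
  rcases primes hp hg hg1 with rfl | rfl | rfl | rfl | rfl | rfl <;>
    rcases primes hq hh hh1 with rfl | rfl | rfl | rfl | rfl | rfl
  all_goals first
    | (exfalso; omega)
    | exact ⟨rfl, Or.inl rfl⟩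
    | exact ⟨rfl, Or.inr rfl⟩
    | exact absurd ho (no_order (by decide +kernel) _)

end Cfsg.Agent.H257.RG.SuzF
end

private theorem dce_5e950394f720 : _root_.True := by
  try have : _root_.True := by simp only [_root_.Cfsg.Agent.H257.RG.inc.eq_1]
  try have : _root_.True := by simp only [_root_.Cfsg.Agent.H257.RG.act.congr_simp]
  exact _root_.True.intro
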